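import Cfsg.Agent.Lib.FusionP3.Series.Quotient
import Cfsg.Agent.Lib.FusionP3.Prime.PPower
import Cfsg.Agent.Lib.FusionP3.Prime.Normality
import Cfsg.Agent.Lib.FusionAlperin.Residual
import Cfsg.Agent.Lib.FusionAlperin.Solvable
import Cfsg.Agent.Lib.FusionAlperin.Model

/-!
Fusion systems with a terminating series of residual subsystems are those of `p`-solvable groups.
-/

set_option autoImplicit false
set_option linter.unusedSectionVars false

namespace Cfsg.Agent.Lib.FusionP3.Series

open Cfsg Cfsg.FusionSystem Cfsg.Agent.Lib.FS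
open scoped commutatorElement

universe u v

variable {Ω : Type u} [Group Ω]

/-- The systems of `p`-solvable groups have terminating series. -/
theorem terminates {p : ℕ} [hp : Fact p.Prime] (n : ℕ) :
    ∀ {S : Subgroup Ω} {F : FusionSystem S} (G : Type v) [Group G] [Finite G] (ι : S →* G) (R : Sylow p G),
      (R : Subgroup G) = ι.range → F.IsRealizedBy ι → IsPSolvable p G → Nat.card G ≤ n →
      F.HasTerminatingResidualSeries p := by
  induction n using Nat.strong_induction_on with
  | _ n ih =>
  intro S F G _ _ ι R hR h hG hn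
  rcases eq_or_ne S ⊥ with rfl | hS0
  · exact HasTerminatingResidualSeries.trivial F p rfl
  haveI := finite_base h
  have hS : IsPGroup p S := isPGroup_base h R hR
  have hF : F.IsSaturated p := isSaturated h R hR
  haveI hnt : Nontrivial G := by
    haveI := (Subgroup.nontrivial_iff_ne_bot S).2 hS0
    obtain ⟨x, hx⟩ := exists_ne (1 : S)
    exact nontrivial_of_ne (ι x) 1 fun e => hx (h.1 (e.trans (map_one ι).symm))
  by_cases hN : pPrimeCore p G = ⊥
  · have hC := PSolvable.centralizer_pCore_le hG hN
    obtain ⟨E, hE⟩ := Prime.exists_residual hS hF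
    by_cases hH : Subgroup.normalClosure ((R : Subgroup G) : Set G) = ⊤
    · have hEF : E = F := eq_of_normalClosure h R hR hC hH hE.1 hE.2.1
      subst hEF
      haveI : (pResidual p G).Normal := Transfer.PResidual.pResidual_normal
      have hT := hyperfocal_eq (p := p) h R hR
      have hTS : E.hyperfocalSubgroup p ≤ S := Tate.hyperfocal_le E p
      have hTL : ∀ x : E.hyperfocalSubgroup p, ι (Subgroup.inclusion hTS x) ∈ pResidual p G := fun x =>
        mem_pre.1 (hT ▸ x.2)
      obtain ⟨W, hW⟩ := sub_sylow h R hR (pResidual p G) hT hTS hTL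
      have hlt : Nat.card (pResidual p G) < n := lt_of_lt_of_le (lt_of_le_of_ne
        (Nat.le_of_dvd Nat.card_pos (Subgroup.card_subgroup_dvd_card _))
        fun e => pResidual_ne_top hG R hH (Subgroup.eq_top_of_card_eq _ e)) hn
      exact HasTerminatingResidualSeries.step E E p (sub h.1 (pResidual p G) hTS hTL) hE
        ⟨isSaturated sub_realized W hW, sub_le h, le_rfl, fun P hP => residual_aut_le h hTS hTL hP⟩
        (ih _ hlt ↥(pResidual p G) _ W hW sub_realized (PSolvable.isPSolvable_subgroup hG _) le_rfl)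
    · set H := Subgroup.normalClosure ((R : Subgroup G) : Set G) with hHdef
      have hTL : ∀ x : S, ι (Subgroup.inclusion le_rfl x) ∈ H := fun x =>
        Subgroup.subset_normalClosure (hR ▸ ⟨_, rfl⟩ : ι (Subgroup.inclusion le_rfl x) ∈ (R : Subgroup G))
      have hT : S = pre ι H := le_antisymm (fun x hx => mem_pre.2 (hTL ⟨x, hx⟩)) (pre_le H)
      obtain ⟨W, hW⟩ := sub_sylow h R hR H hT le_rfl hTL
      have hlt : Nat.card H < n := lt_of_lt_of_le (lt_of_le_of_ne
        (Nat.le_of_dvd Nat.card_pos (Subgroup.card_subgroup_dvd_card _))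
        fun e => hH (Subgroup.eq_top_of_card_eq _ e)) hn
      have ht := ih _ hlt ↥H _ W hW (sub_realized (hι := h.1)) (PSolvable.isPSolvable_subgroup hG _) le_rfl
      cases ht with
      | trivial _ _ hb => exact HasTerminatingResidualSeries.trivial F p hb
      | step _ E' _ D hE' hD hrest =>
        have hEE : E' = E := residual_unique hE'
          (residual_descend hE (isSaturated sub_realized W hW) (sub_index h R hR H hTL))
        subst hEE
        exact HasTerminatingResidualSeries.step F E' p D hE hD hrest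
  · obtain ⟨U, hU⟩ := quotient_sylow R hR (pPrimeCore p G)
    have hlt : Nat.card (G ⧸ pPrimeCore p G) < n := by
      refine lt_of_lt_of_le ?_ hn
      rw [Subgroup.card_eq_card_quotient_mul_card_subgroup (pPrimeCore p G)]
      exact lt_mul_of_one_lt_right Nat.card_pos ((Subgroup.one_lt_card_iff_ne_bot _).2 hN)
    exact ih _ hlt (G ⧸ pPrimeCore p G) _ U hU
      (realized_quotient hS h _ (PSolvable.card_pPrimeCore_coprime))
      (PSolvable.isPSolvable_quotient hG _) le_rfl

/-- A group with `C(O_p) ≤ O_p` realising a system with terminating series is `p`-solvable. -/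
theorem pSolvable_of_series {S : Subgroup Ω} {F : FusionSystem S} {p : ℕ}
    (ht : F.HasTerminatingResidualSeries p) :
    ∀ [Fact p.Prime] (G : Type v) [Group G] [Finite G] (ι : S →* G) (R : Sylow p G),
      (R : Subgroup G) = ι.range → F.IsRealizedBy ι →
      Subgroup.centralizer ((pCore p G : Subgroup G) : Set G) ≤ pCore p G → IsPSolvable p G := by
  induction ht with
  | @trivial S F p hb =>
    intro _ G _ _ ι R hR h hC
    have hR1 : (R : Subgroup G) = ⊥ := by
      rw [hR]
      refine le_bot_iff.1 ?_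
      rintro _ ⟨s, rfl⟩
      rw [show s = 1 from Subtype.ext (Subgroup.mem_bot.1 (hb.le s.2)), map_one]
      exact one_mem _
    have hO : pCore p G = ⊥ := le_bot_iff.1 (hR1 ▸ Cores.pCore_le_sylow R)
    refine PSolvable.isPSolvable_of_coprime ?_
    have : ∀ g : G, g = 1 := fun g => by
      have hg : g ∈ Subgroup.centralizer ((pCore p G : Subgroup G) : Set G) := by
        rw [hO]; intro o ho; rw [Subgroup.mem_bot.1 ho, one_mul, mul_one]
      exact Subgroup.mem_bot.1 (hO ▸ hC hg)
    haveI : Subsingleton G := ⟨fun a b => (this a).trans (this b).symm⟩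
    rw [Nat.card_unique]
    exact Nat.coprime_one_left p
  | @step S F E p D hE hD _ ih =>
    intro _ G _ _ ι R hR h hC
    haveI := finite_base h
    have hS : IsPGroup p S := isPGroup_base h R hR
    set H := Subgroup.normalClosure ((R : Subgroup G) : Set G) with hHdef
    have hTL : ∀ x : S, ι (Subgroup.inclusion le_rfl x) ∈ H := fun x =>
      Subgroup.subset_normalClosure (hR ▸ ⟨_, rfl⟩ : ι (Subgroup.inclusion le_rfl x) ∈ (R : Subgroup G))
    have hT : S = pre ι H := le_antisymm (fun x hx => mem_pre.2 (hTL ⟨x, hx⟩)) (pre_le H)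
    obtain ⟨W, hW⟩ := sub_sylow h R hR H hT le_rfl hTL
    have hCH : Subgroup.centralizer ((pCore p H : Subgroup H) : Set H) ≤ pCore p H :=
      centralizer_pCore_normal hC H
    have hHH : Subgroup.normalClosure ((W : Subgroup H) : Set H) = ⊤ := by
      rw [eq_top_iff, ← Subgroup.map_le_map_iff_of_injective H.subtype_injective, ← MonoidHom.range_eq_map,
        Subgroup.range_subtype]
      refine (Subgroup.closure_le _).2 fun u hu => ?_
      obtain ⟨r, hr, hc⟩ := Group.mem_conjugatesOfSet_iff.1 hu
      obtain ⟨c, rfl⟩ := isConj_iff.1 hc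
      obtain ⟨k, hk⟩ := R.isPGroup' ⟨r, hr⟩
      have hcH : c * r * c⁻¹ ∈ H := Subgroup.normalClosure_normal.conj_mem r (Subgroup.subset_normalClosure hr) c
      have hd : orderOf (⟨c * r * c⁻¹, hcH⟩ : H) ∣ p ^ k := by
        rw [Subgroup.orderOf_mk]
        refine orderOf_dvd_of_pow_eq_one ?_
        rw [conj_pow, show r ^ p ^ k = 1 from congrArg Subtype.val hk]
        group
      obtain ⟨j, -, hj⟩ := (Nat.dvd_prime_pow (Fact.out : p.Prime)).1 hd
      exact ⟨_, pElt_mem_normalClosure W hj, rfl⟩
    have hED : E = sub h.1 H le_rfl hTL := eq_of_normalClosure sub_realized W hW hCH hHH hE.1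
      (residual_descend hE (isSaturated sub_realized W hW) (sub_index h R hR H hTL)).2.1
    subst hED
    set κ := resHom ι H le_rfl hTL
    haveI : (pResidual p H).Normal := Transfer.PResidual.pResidual_normal
    have hκ : (sub h.1 H le_rfl hTL).IsRealizedBy κ := sub_realized
    have hT1 := hyperfocal_eq (p := p) hκ W hW
    have hTS : (sub h.1 H le_rfl hTL).hyperfocalSubgroup p ≤ S := Tate.hyperfocal_le _ p
    have hTL1 : ∀ x : (sub h.1 H le_rfl hTL).hyperfocalSubgroup p,
        κ (Subgroup.inclusion hTS x) ∈ pResidual p H := fun x => mem_pre.1 (hT1 ▸ x.2)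
    obtain ⟨V, hV⟩ := sub_sylow hκ W hW (pResidual p H) hT1 hTS hTL1
    have hsat := isSaturated (sub_realized (hι := hκ.1)) V hV
    have hDD : D = sub hκ.1 (pResidual p H) hTS hTL1 := fusion_le_antisymm
      (FusionAlperin.Residual.subset_of_pPowerIndex hS hD.1 hD.2.1 le_rfl
        ⟨sub_le hκ, le_rfl, fun P hP => residual_aut_le hκ hTS hTL1 hP⟩)
      (FusionAlperin.Residual.subset_of_pPowerIndex hS hsat (sub_le hκ) le_rfl hD.2)
    have hK : IsPSolvable p (pResidual p H) := ih ↥(pResidual p H) _ V hV (hDD ▸ sub_realized)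
      (centralizer_pCore_normal hCH _)
    have hHs : IsPSolvable p H := PSolvable.isPSolvable_of_extension _ hK
      (PSolvable.isPSolvable_of_isPGroup Transfer.PResidual.isPGroup_quotient)
    refine PSolvable.isPSolvable_of_extension H hHs (PSolvable.isPSolvable_of_coprime ?_)
    refine ((Fact.out : p.Prime).coprime_iff_not_dvd.2 fun hd => R.not_dvd_index (hd.trans ?_)).symm
    rw [← Subgroup.index_eq_card]
    exact Subgroup.index_dvd_of_le Subgroup.subset_normalClosure

/-- Strongly closed steps with abelian quotients lead from above the hyperfocal subgroup to `S`. -/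
theorem climb_top {S T : Subgroup Ω} [Finite S] {p : ℕ} [Fact p.Prime] (hS : IsPGroup p S)
    {F : FusionSystem S} (hF : F.IsSaturated p) (hT : F.hyperfocalSubgroup p ≤ T)
    (hTS : T ≤ S) (hTn : (T.subgroupOf S).Normal) (h : FusionAlperin.Solvable.Climb F T) :
    FusionAlperin.Solvable.Climb F S := by
  haveI := hS.isNilpotent
  obtain ⟨n, hn⟩ := (IsNilpotent.to_isSolvable : Group.IsSolvable S).solvable
  let U : ℕ → Subgroup Ω := fun k => (T.subgroupOf S ⊔ derivedSeries S k).map S.subtype
  have hbase : U n = T := by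
    show ((T.subgroupOf S ⊔ derivedSeries S n).map S.subtype) = T
    rw [hn, sup_bot_eq, Subgroup.subgroupOf_map_subtype, inf_eq_left.2 hTS]
  have hstep : ∀ j ≤ n, FusionAlperin.Solvable.Climb F (U (n - j)) := by
    intro j hj
    induction j with
    | zero => rw [Nat.sub_zero, hbase]; exact h
    | succ j ih =>
      have e : n - j = n - (j + 1) + 1 := by omega
      refine (ih (by omega)).step ?_ ?_ ?_
      · rw [e]
        refine Subgroup.map_mono (sup_le_sup_left ?_ _)
        exact derivedSeries_antitone S (Nat.le_succ _)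
      · haveI := derivedSeries_normal S (n - (j + 1))
        refine Prime.PPower.stronglyClosed_of_hyperfocal_le hS hF (Subgroup.map_subtype_le _) ?_ (hT.trans ?_)
        · rw [Subgroup.subgroupOf, Subgroup.comap_map_eq_self_of_injective S.subtype_injective]
          exact Subgroup.sup_normal _ _
        · intro x hx
          exact ⟨⟨x, hTS hx⟩, Subgroup.mem_sup_left hx, rfl⟩
      · show ⁅(T.subgroupOf S ⊔ derivedSeries S (n - (j + 1))).map S.subtype,
          (T.subgroupOf S ⊔ derivedSeries S (n - (j + 1))).map S.subtype⁆ ≤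
            (T.subgroupOf S ⊔ derivedSeries S (n - j)).map S.subtype
        rw [← Subgroup.map_commutator]
        refine Subgroup.map_mono ?_
        rw [e, derivedSeries_succ]
        set N := T.subgroupOf S
        set A := derivedSeries S (n - (j + 1))
        have : (⁅N ⊔ A, N ⊔ A⁆).map (QuotientGroup.mk' N) ≤ (N ⊔ ⁅A, A⁆).map (QuotientGroup.mk' N) := by
          rw [Subgroup.map_commutator, Subgroup.map_sup, Subgroup.map_sup, QuotientGroup.map_mk'_self,
            bot_sup_eq, bot_sup_eq, Subgroup.map_commutator]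
        rwa [Subgroup.map_le_map_iff, QuotientGroup.ker_mk', sup_comm (N ⊔ ⁅A, A⁆), ← sup_assoc,
          sup_idem] at this
  have := hstep n le_rfl
  rwa [Nat.sub_self, show U 0 = S by
    show ((T.subgroupOf S ⊔ derivedSeries S 0).map S.subtype) = S
    rw [derivedSeries_zero, sup_top_eq, ← MonoidHom.range_eq_map, Subgroup.range_subtype]] at this

theorem self_invariant {S : Subgroup Ω} [Finite S] (F : FusionSystem S) : F.IsInvariantIn F := by
  refine ⟨fun _ _ h => h, ⟨le_rfl, fun _ _ _ hφ x => apply_mem hφ x⟩, fun P hP φ hφ α hα => ?_, fun P hP φ hφ => ?_⟩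
  · obtain ⟨θ, hθ, hθr⟩ : ∃ θ ∈ F.Hom P, ∀ x : P, θ x = (α ⟨x, hP x.2⟩ : S) := by
      obtain ⟨a, ha, -, hae⟩ := exists_hom_of_aut le_rfl hα
      obtain ⟨b, hb, hbe⟩ := exists_restrict ha hP
      exact ⟨b, hb, fun x => (hbe x).trans (hae _)⟩
    have hR : θ.range = (P.subgroupOf S).map (S.subtype.comp α.toMonoidHom) := by
      ext z
      constructor
      · rintro ⟨x, rfl⟩
        exact ⟨⟨x, hP x.2⟩, x.2, (hθr x).symm⟩
      · rintro ⟨w, hw, rfl⟩
        exact ⟨⟨(w : Ω), hw⟩, hθr _⟩
    obtain ⟨η, hη, -, hηl, -⟩ := exists_inv hθ hR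
    obtain ⟨χ₁, hχ₁, e₁⟩ := exists_comp hη hφ (Q := P) fun y => by
      obtain ⟨x, hx⟩ := (hR.ge y.2 : (y : Ω) ∈ θ.range)
      have : y = ⟨θ x, hR.le ⟨x, rfl⟩⟩ := Subtype.ext hx.symm
      rw [this, hηl x]; exact x.2
    obtain ⟨a, ha, -, hae⟩ := exists_hom_of_aut le_rfl hα
    obtain ⟨χ, hχ, e⟩ := exists_comp hχ₁ ha fun y => apply_mem hχ₁ y
    refine ⟨χ, hχ, fun x hφx hαx => ?_⟩
    rw [e, hae]
    congr 2
    refine Subtype.ext ?_
    show χ₁ _ = φ x
    rw [e₁]
    congr 1
    refine Subtype.ext ?_
    have : (⟨((α ⟨x, hP x.2⟩ : S) : Ω), hαx⟩ : ↥((P.subgroupOf S).map (S.subtype.comp α.toMonoidHom))) =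
        ⟨θ x, hR.le ⟨x, rfl⟩⟩ := Subtype.ext (hθr x).symm
    show η _ = (x : Ω)
    rw [this]
    exact hηl x _
  · exact ⟨1, one_mem _, φ, hφ, fun x hx => rfl⟩

/-- A system with terminating series climbs to `S` by strongly closed abelian steps. -/
theorem climb_of_series {S : Subgroup Ω} {F : FusionSystem S} {p : ℕ}
    (ht : F.HasTerminatingResidualSeries p) : ∀ [Finite S] [Fact p.Prime], IsPGroup p S → F.IsSaturated p →
      FusionAlperin.Solvable.Climb F S := by
  induction ht with
  | @trivial S F p hb =>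
    intro _ _ _ _
    subst hb; exact FusionAlperin.Solvable.Climb.bot
  | @step S F E p D hE hD _ ih =>
    intro _ _ hS hF
    have hTS : E.hyperfocalSubgroup p ≤ S := Tate.hyperfocal_le E p
    haveI := finite_sub hTS
    have hTn : ((E.hyperfocalSubgroup p).subgroupOf S).Normal :=
      ⟨fun c hc g => Tate.hyperfocal_conj_mem g.2 hc⟩
    have hD1 := ih (hS.to_le hTS) hD.1
    have hDn := Prime.PPower.isNormalIn_of_pPowerIndex hS hE.1 hTS hTn le_rfl hD.1 hD.2
    have hE1 := climb_top hS hE.1 le_rfl hTS hTn (FusionAlperin.Solvable.climb_of_invariant hDn.1.2.2 hD1)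
    have hself : F.IsWeaklyNormalIn F p := ⟨hF, hF, self_invariant F⟩
    exact FusionAlperin.Solvable.climb_of_invariant (Prime.Normality.residual_isNormalIn hS hself hE).1.2.2 hE1

end Cfsg.Agent.Lib.FusionP3.Series
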