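import Cfsg.Agent.Lib.FusionP3.Series.Residual

/-!
Realisations modulo a normal subgroup of order prime to `p`; the top factor of a `p`-solvable group.
-/

set_option autoImplicit false
set_option linter.unusedSectionVars false

namespace Cfsg.Agent.Lib.FusionP3.Series

open Cfsg Cfsg.FusionSystem Cfsg.Agent.Lib.FS

variable {Ω : Type*} [Group Ω] {S : Subgroup Ω} {p : ℕ} [hp : Fact p.Prime] {F : FusionSystem S}
variable {G : Type*} [Group G] [Finite G] {ι : S →* G}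

theorem eq_one_of_mem (hS : IsPGroup p S) (hι : Function.Injective ι) {N : Subgroup G}
    (hN : (Nat.card N).Coprime p) {s : S} (hs : ι s ∈ N) : s = 1 := by
  refine hι ?_
  rw [map_one]
  obtain ⟨k, hk⟩ := hS s
  have h1 : orderOf (ι s) ∣ p ^ k := orderOf_dvd_of_pow_eq_one (by rw [← map_pow, hk, map_one])
  have h2 : orderOf (ι s) ∣ Nat.card N := by
    have h := orderOf_dvd_natCard (⟨ι s, hs⟩ : N)
    rwa [Subgroup.orderOf_mk] at h
  exact orderOf_eq_one_iff.1 (Nat.eq_one_of_dvd_coprimes (hN.pow_right k) h2 h1)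

/-- A normal subgroup of order prime to `p` may be factored out of a realisation. -/
theorem realized_quotient (hS : IsPGroup p S) (h : F.IsRealizedBy ι) (N : Subgroup G) [N.Normal]
    (hN : (Nat.card N).Coprime p) : F.IsRealizedBy ((QuotientGroup.mk' N).comp ι) := by
  haveI := finite_base h
  have hinj : Function.Injective ((QuotientGroup.mk' N).comp ι) := by
    refine (injective_iff_map_eq_one _).2 fun s hs => eq_one_of_mem hS h.1 hN ?_
    exact (QuotientGroup.eq_one_iff _).1 hs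
  refine ⟨hinj, fun P hP φ hφ => ⟨fun hm => ?_, ?_⟩⟩
  · obtain ⟨g, hg⟩ := (h.2 P hP φ hφ).1 hm
    refine ⟨QuotientGroup.mk' N g, fun x => ?_⟩
    simp only [MonoidHom.comp_apply, hg x, map_mul, map_inv]
  rintro ⟨gq, hgq⟩
  obtain ⟨g, rfl⟩ := QuotientGroup.mk'_surjective N gq
  refine (h.2 P hP φ hφ).2 ?_
  set φS : P →* S := φ.codRestrict S hφ
  set B : Subgroup G := (ι.comp φS).range with hB
  set A : Subgroup G := ((MulAut.conj g).toMonoidHom.comp (ι.comp (Subgroup.inclusion hP))).range with hA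
  have hP' : IsPGroup p P := isPGroup_of_le hS hP
  have hAp : IsPGroup p A := hP'.of_surjective _ (MonoidHom.rangeRestrict_surjective _)
  have hBp : IsPGroup p B := hP'.of_surjective _ (MonoidHom.rangeRestrict_surjective _)
  have hcong : ∀ x : P, (g * ι ⟨x, hP x.2⟩ * g⁻¹)⁻¹ * ι (φS x) ∈ N := fun x => by
    refine QuotientGroup.eq.1 ?_
    exact ((hgq x).trans (by simp only [MonoidHom.comp_apply]; rfl)).symm
  have hAM : A ≤ B ⊔ N := by
    rintro _ ⟨x, rfl⟩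
    show g * ι ⟨x, hP x.2⟩ * g⁻¹ ∈ B ⊔ N
    rw [show g * ι ⟨x, hP x.2⟩ * g⁻¹ = ι (φS x) * ((g * ι ⟨x, hP x.2⟩ * g⁻¹)⁻¹ * ι (φS x))⁻¹ by group]
    exact Subgroup.mul_mem_sup ⟨x, rfl⟩ (inv_mem (hcong x))
  have hBN : B ⊓ N = ⊥ := by
    refine le_bot_iff.1 ?_
    rintro _ ⟨⟨x, rfl⟩, hn⟩
    have := eq_one_of_mem hS h.1 hN (show ι (φS x) ∈ N from hn)
    show ι (φS x) ∈ (⊥ : Subgroup G)
    rw [this, map_one]
    exact one_mem _
  have hidx : ¬ p ∣ (B.subgroupOf (B ⊔ N)).index := by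
    intro hd
    have h1 := Subgroup.relIndex_mul_relIndex ⊥ B (B ⊔ N) bot_le le_sup_left
    have h2 := Subgroup.relIndex_mul_relIndex ⊥ N (B ⊔ N) bot_le le_sup_right
    have h3 : N.relIndex (B ⊔ N) = Nat.card B := by
      rw [Subgroup.relIndex_sup_right, ← Subgroup.relIndex_bot_left, ← hBN, inf_comm, Subgroup.inf_relIndex_right]
    rw [Subgroup.relIndex_bot_left, Subgroup.relIndex_bot_left] at h1 h2
    rw [h3, ← h1, mul_comm] at h2
    have h4 : B.relIndex (B ⊔ N) = Nat.card N := (Nat.eq_of_mul_eq_mul_left Nat.card_pos h2).symm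
    exact hp.out.coprime_iff_not_dvd.1 hN.symm (h4 ▸ hd)
  obtain ⟨a, ha, hconj⟩ := exists_conj_le_sylow
    ((hBp.of_equiv (Subgroup.subgroupOfEquivOfLe (le_sup_left : B ≤ B ⊔ N)).symm).toSylow hidx)
    (R₀ := B) rfl hAM hAp
  obtain ⟨b, hb, m, hm, rfl⟩ := Subgroup.mem_sup_of_normal_right.1 ha
  refine ⟨m * g, fun x => ?_⟩
  have h1 : m * g * ι ⟨x, hP x.2⟩ * (m * g)⁻¹ ∈ B := by
    have := hconj _ ⟨x, rfl⟩
    have h2 := mul_mem (mul_mem (inv_mem hb) this) hb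
    rw [show m * g * ι ⟨x, hP x.2⟩ * (m * g)⁻¹ =
      b⁻¹ * (b * m * (g * ι ⟨x, hP x.2⟩ * g⁻¹) * (b * m)⁻¹) * b by group]
    exact h2
  have h2 : (m * g * ι ⟨x, hP x.2⟩ * (m * g)⁻¹)⁻¹ * ι (φS x) ∈ N := by
    rw [show (m * g * ι ⟨x, hP x.2⟩ * (m * g)⁻¹)⁻¹ * ι (φS x) =
      m * ((g * ι ⟨x, hP x.2⟩ * g⁻¹)⁻¹ * m⁻¹ * (g * ι ⟨x, hP x.2⟩ * g⁻¹)) *
        ((g * ι ⟨x, hP x.2⟩ * g⁻¹)⁻¹ * ι (φS x)) by group]
    exact mul_mem (mul_mem hm (Subgroup.Normal.conj_mem' inferInstance _ (inv_mem hm) _)) (hcong x)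
  have h3 : (m * g * ι ⟨x, hP x.2⟩ * (m * g)⁻¹)⁻¹ * ι (φS x) ∈ B ⊓ N :=
    ⟨mul_mem (Subgroup.inv_mem _ h1) ⟨x, rfl⟩, h2⟩
  rw [hBN, Subgroup.mem_bot, inv_mul_eq_one] at h3
  exact h3.symm

theorem quotient_sylow (R : Sylow p G) (hR : (R : Subgroup G) = ι.range) (N : Subgroup G) [N.Normal] :
    ∃ U : Sylow p (G ⧸ N), (U : Subgroup (G ⧸ N)) = ((QuotientGroup.mk' N).comp ι).range :=
  ⟨R.mapSurjective (QuotientGroup.mk'_surjective N), by
    rw [Sylow.coe_mapSurjective, hR, MonoidHom.range_comp]⟩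

/-- A nontrivial `p`-solvable group is not both `O^p` and `O^{p'}` of itself. -/
theorem pResidual_ne_top [Nontrivial G] (hG : IsPSolvable p G) (R : Sylow p G)
    (hN : Subgroup.normalClosure ((R : Subgroup G) : Set G) = ⊤) : pResidual p G ≠ ⊤ := by
  intro hP
  obtain ⟨N, -, hmax⟩ := Finite.exists_le_maximal (p := fun M : Subgroup G => M.Normal ∧ M ≠ ⊤)
    (a := ⊥) ⟨inferInstance, bot_ne_top⟩
  haveI := hmax.1.1
  obtain ⟨M, hM, hlt, hnum⟩ := PSolvable.exists_step hG N hmax.1.2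
  have hMt : M = ⊤ := by
    by_contra hne
    exact hlt.not_ge (hmax.2 ⟨hM, hne⟩ hlt.le)
  rw [hMt, Subgroup.relIndex_top_right] at hnum
  rcases hnum with ⟨k, hk⟩ | hco
  · exact hmax.1.2 (top_le_iff.1 (hP ▸ Transfer.PResidual.pResidual_le_of_isPGroup_quotient N
      (IsPGroup.of_card (n := k) hk)))
  · refine hmax.1.2 (top_le_iff.1 (hN ▸ Subgroup.normalClosure_le_normal ?_))
    intro r hr
    obtain ⟨k, hk⟩ := R.isPGroup' ⟨r, hr⟩
    have h1 : orderOf (QuotientGroup.mk' N r) ∣ p ^ k :=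
      orderOf_dvd_of_pow_eq_one (by rw [← map_pow, show r ^ p ^ k = 1 from congrArg Subtype.val hk, map_one])
    exact (QuotientGroup.eq_one_iff r).1 (orderOf_eq_one_iff.1
      (Nat.eq_one_of_dvd_coprimes (hco.pow_right k) (orderOf_dvd_natCard _) h1))

end Cfsg.Agent.Lib.FusionP3.Series
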