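import Cfsg.Agent.Lib.MetacyclicChains.Pullback
import Cfsg.Agent.Lib.FusionSystem.Hyperfocal
import Cfsg.Agent.Lib.FusionSystem.NormalSub
import Cfsg.Agent.Lib.FusionP3.Tate

/-!
Subsystems of a realised fusion system coming from normal subgroups of the realising group.
-/

set_option autoImplicit false
set_option linter.unusedSectionVars false

namespace Cfsg.Agent.Lib.FusionP3.Series

open Cfsg Cfsg.FusionSystem Cfsg.Agent.Lib.FS

variable {Ω : Type*} [Group Ω] {S : Subgroup Ω} {p : ℕ} {F : FusionSystem S}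
variable {G : Type*} [Group G] {ι : S →* G}

/-- The subgroup of `S` sent into `K`. -/
def pre (ι : S →* G) (K : Subgroup G) : Subgroup Ω := (K.comap ι).map S.subtype

theorem pre_le (K : Subgroup G) : pre ι K ≤ S := Subgroup.map_subtype_le _

theorem mem_pre {K : Subgroup G} {x : S} : (x : Ω) ∈ pre ι K ↔ ι x ∈ K :=
  ⟨by rintro ⟨y, hy, hye⟩; rw [← Subtype.ext hye]; exact hy, fun h => ⟨x, h, rfl⟩⟩

/-- The restriction of `ι` to `T`, with values in `L`. -/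
def resHom (ι : S →* G) (L : Subgroup G) {T : Subgroup Ω} (hTS : T ≤ S)
    (hTL : ∀ x : T, ι (Subgroup.inclusion hTS x) ∈ L) : T →* L :=
  (ι.comp (Subgroup.inclusion hTS)).codRestrict L hTL

theorem resHom_injective (hι : Function.Injective ι) {L : Subgroup G} {T : Subgroup Ω} (hTS : T ≤ S)
    (hTL : ∀ x : T, ι (Subgroup.inclusion hTS x) ∈ L) : Function.Injective (resHom ι L hTS hTL) :=
  fun _ _ h => Subgroup.inclusion_injective hTS (hι (congrArg (fun z : L => (z : G)) h))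

/-- The system that `L` induces on `T`. -/
noncomputable def sub (hι : Function.Injective ι) (L : Subgroup G) {T : Subgroup Ω} (hTS : T ≤ S)
    (hTL : ∀ x : T, ι (Subgroup.inclusion hTS x) ∈ L) : FusionSystem T :=
  MetacyclicChains.pullback (resHom ι L hTS hTL) (resHom_injective hι hTS hTL)

variable {hι : Function.Injective ι} {L : Subgroup G} {T : Subgroup Ω} {hTS : T ≤ S}
  {hTL : ∀ x : T, ι (Subgroup.inclusion hTS x) ∈ L}

theorem sub_realized : (sub hι L hTS hTL).IsRealizedBy (resHom ι L hTS hTL) :=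
  MetacyclicChains.realized _ _

theorem mem_sub {P : Subgroup Ω} {φ : P →* Ω} :
    φ ∈ (sub hι L hTS hTL).Hom P ↔ ∃ (hP : P ≤ T) (hφ : ∀ x : P, φ x ∈ T), ∃ g ∈ L,
      ∀ x : P, ι ⟨φ x, hTS (hφ x)⟩ = g * ι ⟨x, hTS (hP x.2)⟩ * g⁻¹ := by
  constructor
  · rintro ⟨hP, hφ, g, hg⟩
    exact ⟨hP, hφ, g, g.2, fun x => congrArg Subtype.val (hg x)⟩
  · rintro ⟨hP, hφ, g, hgL, hg⟩
    exact ⟨hP, hφ, ⟨g, hgL⟩, fun x => Subtype.ext (hg x)⟩

theorem sub_le (h : F.IsRealizedBy ι) : (sub hι L hTS hTL).IsSubsystemOf F := by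
  intro P φ hφ
  obtain ⟨hP, hφT, g, -, hg⟩ := mem_sub.1 hφ
  exact (h.2 P (hP.trans hTS) φ fun x => hTS (hφT x)).2 ⟨g, hg⟩

theorem induced_of_mem (h : F.IsRealizedBy ι) {P : Subgroup Ω} (hP : P ≤ S) {α : MulAut P}
    (hα : α ∈ F.autGroup P) :
    ∃ g : G, ∀ x : P, ι ⟨α x, hP (α x).2⟩ = g * ι ⟨x, hP x.2⟩ * g⁻¹ :=
  (h.2 P hP (P.subtype.comp α.toMonoidHom) fun x => hP (α x).2).1 ((mem_autGroup hP).1 hα)

theorem mem_of_induced (h : F.IsRealizedBy ι) {P : Subgroup Ω} (hP : P ≤ S) {α : MulAut P} {g : G}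
    (hg : ∀ x : P, ι ⟨α x, hP (α x).2⟩ = g * ι ⟨x, hP x.2⟩ * g⁻¹) : α ∈ F.autGroup P :=
  (mem_autGroup hP).2 ((h.2 P hP (P.subtype.comp α.toMonoidHom) fun x => hP (α x).2).2 ⟨g, hg⟩)

theorem sub_mem_aut {P : Subgroup Ω} (hP : P ≤ T) {α : MulAut P} {g : G} (hgL : g ∈ L)
    (hg : ∀ x : P, ι ⟨α x, hTS (hP (α x).2)⟩ = g * ι ⟨x, hTS (hP x.2)⟩ * g⁻¹) :
    α ∈ (sub hι L hTS hTL).autGroup P :=
  (mem_autGroup hP).2 (mem_sub.2 ⟨hP, fun x => hP (α x).2, g, hgL, hg⟩)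

theorem induced_pow {P : Subgroup Ω} (hP : P ≤ S) {α : MulAut P} {g : G}
    (hg : ∀ x : P, ι ⟨α x, hP (α x).2⟩ = g * ι ⟨x, hP x.2⟩ * g⁻¹) :
    ∀ (k : ℕ) (x : P), ι ⟨(α ^ k) x, hP ((α ^ k) x).2⟩ = g ^ k * ι ⟨x, hP x.2⟩ * (g ^ k)⁻¹ := by
  intro k
  induction k with
  | zero => intro x; simp
  | succ k ih =>
    intro x
    have h1 := ih (α x)
    rw [hg x] at h1
    have e : (α ^ (k + 1)) x = (α ^ k) (α x) := by rw [pow_succ, MulAut.mul_apply]
    have e' : (⟨((α ^ (k + 1)) x : P), hP ((α ^ (k + 1)) x).2⟩ : S) = ⟨((α ^ k) (α x) : P), hP ((α ^ k) (α x)).2⟩ :=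
      Subtype.ext (congrArg (fun z : P => (z : Ω)) e)
    rw [e', h1, pow_succ, mul_inv_rev]
    simp only [mul_assoc]

/-- An automorphism induced by `g` is induced by the part of `g` supported on its order. -/
theorem exists_part [Finite G] {P : Subgroup Ω} (hP : P ≤ S) {α : MulAut P} {g : G}
    (hg : ∀ x : P, ι ⟨α x, hP (α x).2⟩ = g * ι ⟨x, hP x.2⟩ * g⁻¹) {d e : ℕ} (hde : d * e = orderOf g)
    (hco : d.Coprime (orderOf α)) :
    ∃ n : G, orderOf n ∣ e ∧ ∀ x : P, ι ⟨α x, hP (α x).2⟩ = n * ι ⟨x, hP x.2⟩ * n⁻¹ := by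
  obtain ⟨k, hk0, hk1⟩ := Nat.chineseRemainder hco 0 1
  have hα : α ^ k = α := by
    conv_rhs => rw [← pow_one α]
    exact pow_eq_pow_iff_modEq.2 hk1
  refine ⟨g ^ k, orderOf_dvd_of_pow_eq_one ?_, fun x => ?_⟩
  · obtain ⟨j, rfl⟩ := Nat.modEq_zero_iff_dvd.1 hk0
    rw [← pow_mul, show d * j * e = d * e * j by ring, hde, pow_mul, pow_orderOf_eq_one, one_pow]
  · have e' : (⟨(α x : P), hP (α x).2⟩ : S) = ⟨((α ^ k) x : P), hP ((α ^ k) x).2⟩ :=
      Subtype.ext (by rw [hα])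
    rw [e']
    exact induced_pow hP hg k x

variable [Finite G] [hp : Fact p.Prime]

theorem exists_coprime (h : F.IsRealizedBy ι) {P : Subgroup Ω} (hP : P ≤ S) {α : MulAut P}
    (hα : α ∈ F.autGroup P) (hco : (orderOf α).Coprime p) :
    ∃ n : G, (orderOf n).Coprime p ∧ ∀ x : P, ι ⟨α x, hP (α x).2⟩ = n * ι ⟨x, hP x.2⟩ * n⁻¹ := by
  obtain ⟨g, hg⟩ := induced_of_mem h hP hα
  obtain ⟨n, hn, hne⟩ := exists_part hP hg (Nat.ordProj_mul_ordCompl_eq_self (orderOf g) p)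
    (hco.symm.pow_left _)
  exact ⟨n, (Nat.coprime_ordCompl hp.out (orderOf_pos g).ne').symm.coprime_dvd_left hn, hne⟩

theorem exists_pElt (h : F.IsRealizedBy ι) {P : Subgroup Ω} (hP : P ≤ S) {α : MulAut P}
    (hα : α ∈ F.autGroup P) {k : ℕ} (hk : orderOf α = p ^ k) :
    ∃ (n : G) (j : ℕ), orderOf n = p ^ j ∧ ∀ x : P, ι ⟨α x, hP (α x).2⟩ = n * ι ⟨x, hP x.2⟩ * n⁻¹ := by
  obtain ⟨g, hg⟩ := induced_of_mem h hP hα
  obtain ⟨n, hn, hne⟩ := exists_part hP hg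
    ((mul_comm _ _).trans (Nat.ordProj_mul_ordCompl_eq_self (orderOf g) p))
    (hk ▸ (Nat.coprime_ordCompl hp.out (orderOf_pos g).ne').symm.pow_right k)
  obtain ⟨j, -, hj⟩ := (Nat.dvd_prime_pow hp.out).1 hn
  exact ⟨n, j, hj, hne⟩

/-- The `p`-residual of `Aut_F(P)` is induced by `O^p(G)`. -/
theorem residual_induced (h : F.IsRealizedBy ι) {P : Subgroup Ω} (hP : P ≤ S) {α : F.autGroup P}
    (hα : α ∈ pResidual p (F.autGroup P)) :
    ∃ n ∈ pResidual p G, ∀ x : P,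
      ι ⟨(α : MulAut P) x, hP ((α : MulAut P) x).2⟩ = n * ι ⟨x, hP x.2⟩ * n⁻¹ := by
  let A : Subgroup (F.autGroup P) :=
    { carrier := {β | ∃ n ∈ pResidual p G, ∀ x : P,
        ι ⟨(β : MulAut P) x, hP ((β : MulAut P) x).2⟩ = n * ι ⟨x, hP x.2⟩ * n⁻¹}
      one_mem' := ⟨1, one_mem _, fun x => by simp⟩
      mul_mem' := by
        rintro a b ⟨m, hm, hma⟩ ⟨n, hn, hnb⟩
        refine ⟨m * n, mul_mem hm hn, fun x => ?_⟩
        have h1 := hma ((b : MulAut P) x)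
        rw [hnb x] at h1
        rw [mul_inv_rev]
        simpa only [Subgroup.coe_mul, MulAut.mul_apply, mul_assoc] using h1
      inv_mem' := by
        rintro a ⟨m, hm, hma⟩
        refine ⟨m⁻¹, inv_mem hm, fun x => ?_⟩
        have h1 := hma (((a⁻¹ : F.autGroup P) : MulAut P) x)
        have e : (a : MulAut P) (((a⁻¹ : F.autGroup P) : MulAut P) x) = x := by
          rw [← MulAut.mul_apply, ← Subgroup.coe_mul, mul_inv_cancel]; rfl
        simp only [e] at h1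
        rw [inv_inv, h1]
        group }
  have hle : pResidual p (F.autGroup P) ≤ A := by
    refine (Subgroup.closure_le _).2 fun β hβ => ?_
    obtain ⟨n, hn, hne⟩ := exists_coprime h hP β.2 (by rw [Subgroup.orderOf_coe]; exact hβ)
    exact ⟨n, Transfer.PResidual.mem_pResidual hn, hne⟩
  exact hle hα

theorem residual_aut_le (h : F.IsRealizedBy ι) {T : Subgroup Ω} (hTS : T ≤ S)
    (hTL : ∀ x : T, ι (Subgroup.inclusion hTS x) ∈ pResidual p G) {P : Subgroup Ω} (hP : P ≤ T) :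
    (pResidual p (F.autGroup P)).map (F.autGroup P).subtype ≤
      (sub h.1 (pResidual p G) hTS hTL).autGroup P := by
  rintro _ ⟨α, hα, rfl⟩
  obtain ⟨n, hn, hne⟩ := residual_induced h (hP.trans hTS) hα
  exact sub_mem_aut hP hn hne

/-- An element of `G` normalising the image of `P` gives an automorphism of `P`. -/
theorem exists_aut (hι : Function.Injective ι) {P : Subgroup Ω} (hP : P ≤ S) :
    ∃ f : Subgroup.normalizer (((P.subgroupOf S).map ι : Subgroup G) : Set G) →* MulAut P,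
      ∀ (n : Subgroup.normalizer (((P.subgroupOf S).map ι : Subgroup G) : Set G)) (x : P),
        ι ⟨f n x, hP (f n x).2⟩ = n * ι ⟨x, hP x.2⟩ * (n : G)⁻¹ := by
  set R := (P.subgroupOf S).map ι
  let e : P ≃* R := (Subgroup.subgroupOfEquivOfLe hP).symm.trans (Subgroup.equivMapOfInjective _ ι hι)
  refine ⟨(MulAut.congr e.symm).toMonoidHom.comp R.normalizerMonoidHom, fun n x => ?_⟩
  have he : ∀ y : P, ι ⟨y, hP y.2⟩ = (e y : G) := fun y => rfl
  rw [he, he]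
  simp [MulAut.congr]

theorem hyperfocal_le_pre (h : F.IsRealizedBy ι) :
    F.hyperfocalSubgroup p ≤ pre ι (pResidual p G) := by
  refine (Subgroup.closure_le _).2 ?_
  rintro _ ⟨P, α, x, hP, hα, rfl⟩
  have : (pResidual p G).Normal := Transfer.PResidual.pResidual_normal
  obtain ⟨n, hn, hne⟩ := residual_induced h hP hα
  refine (mem_pre (S := S) (ι := ι) (x := (⟨(x : Ω), hP x.2⟩ : S)⁻¹ *
    ⟨(((α : MulAut P) x : P) : Ω), hP ((α : MulAut P) x).2⟩)).2 ?_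
  rw [map_mul, map_inv, hne x]
  set a := ι ⟨x, hP x.2⟩
  rw [show a⁻¹ * (n * a * n⁻¹) = (a⁻¹ * n * a⁻¹⁻¹) * n⁻¹ by group]
  exact mul_mem (Subgroup.Normal.conj_mem inferInstance n hn a⁻¹) (inv_mem hn)

/-- The hyperfocal subgroup of a realised system. -/
theorem hyperfocal_eq (h : F.IsRealizedBy ι) (R : Sylow p G) (hR : (R : Subgroup G) = ι.range) :
    F.hyperfocalSubgroup p = pre ι (pResidual p G) := by
  refine le_antisymm (hyperfocal_le_pre h) ?_
  rintro _ ⟨s, hs, rfl⟩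
  have hle : (groupFusionSystem (R : Subgroup G)).hyperfocalSubgroup p ≤
      ((F.hyperfocalSubgroup p).subgroupOf S).map ι := by
    refine hyperfocal_group_le _ fun Q hQ n hn hco y hy => ?_
    have hQr : Q ≤ ι.range := hR ▸ hQ
    have hPS : pre ι Q ≤ S := pre_le Q
    have hmap : ((pre ι Q).subgroupOf S).map ι = Q := by
      rw [pre, Subgroup.subgroupOf, Subgroup.comap_map_eq_self_of_injective S.subtype_injective,
        Subgroup.map_comap_eq_self hQr]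
    obtain ⟨f, hf⟩ := exists_aut h.1 hPS
    have hn' : n ∈ Subgroup.normalizer ((((pre ι Q).subgroupOf S).map ι : Subgroup G) : Set G) := by
      rw [hmap]; exact hn
    have hmem : f ⟨n, hn'⟩ ∈ F.autGroup (pre ι Q) := mem_of_induced h hPS (hf ⟨n, hn'⟩)
    have hord : (orderOf (f ⟨n, hn'⟩)).Coprime p := by
      refine Nat.Coprime.coprime_dvd_left (orderOf_map_dvd f _) ?_
      rwa [Subgroup.orderOf_mk]
    obtain ⟨x, rfl⟩ := hQr hy
    have hxP : (x : Ω) ∈ pre ι Q := mem_pre.2 hy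
    have hg := Tate.hyperfocal_gen_mem (p := p) hPS (α := ⟨_, hmem⟩)
      (Transfer.PResidual.mem_pResidual (by rwa [Subgroup.orderOf_mk])) ⟨(x : Ω), hxP⟩
    refine ⟨x⁻¹ * ⟨_, hPS (f ⟨n, hn'⟩ ⟨(x : Ω), hxP⟩).2⟩, hg, ?_⟩
    rw [map_mul, map_inv, hf]
  have h1 : ι s ∈ (groupFusionSystem (R : Subgroup G)).hyperfocalSubgroup p := by
    rw [hyperfocal_group R]
    exact ⟨hR ▸ ⟨s, rfl⟩, hs⟩
  obtain ⟨t, ht, hte⟩ := hle h1
  rw [← h.1 hte]
  exact ht

end Cfsg.Agent.Lib.FusionP3.Series
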