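import Cfsg.Agent.Lib.FusionP3.Series.Realised
import Cfsg.Agent.Lib.FusionP3.Prime.Saturated
import Cfsg.Agent.Lib.PSolvable.HallHigman
import Cfsg.Agent.Lib.CharP.Subnormal
import Cfsg.Agent.Lib.Balance.Locals
import Cfsg.Agent.Lib.FusionP3.GT.Basic

/-!
The `p'`-residual of a realised fusion system and of its subsystems of index prime to `p`.
-/

set_option autoImplicit false
set_option linter.unusedSectionVars false

namespace Cfsg.Agent.Lib.FusionP3.Series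

open Cfsg Cfsg.FusionSystem Cfsg.Agent.Lib.FS

variable {Ω : Type*} [Group Ω] {S : Subgroup Ω} {p : ℕ} [hp : Fact p.Prime] {F : FusionSystem S}

theorem residual_unique {E E' : FusionSystem S} (h : F.IsPPrimeResidual p E) (h' : F.IsPPrimeResidual p E') :
    E = E' :=
  fusion_le_antisymm (h.2.2 E' h'.1 h'.2.1) (h'.2.2 E h.1 h.2.1)

/-- The residual is the residual of every saturated subsystem of index prime to `p`. -/
theorem residual_descend {E D : FusionSystem S} (h : F.IsPPrimeResidual p E) (hD : D.IsSaturated p)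
    (hDi : D.HasPrimeToPIndexIn F p) : D.IsPPrimeResidual p E := by
  refine ⟨h.1, ⟨h.2.2 D hD hDi, fun P hP => ?_⟩, fun D' hD' hD'i => ?_⟩
  · rw [MonoidHom.map_closure, Subgroup.closure_le]
    rintro _ ⟨α, ⟨k, hk⟩, rfl⟩
    have hα : (α : MulAut P) ∈ F.autGroup P := GT.autGroup_mono hDi.1 hP α.2
    exact h.2.1.2 P hP ⟨⟨α, hα⟩, Subgroup.subset_closure ⟨k, by
      rw [Subgroup.orderOf_mk]; rwa [← Subgroup.orderOf_coe] at hk⟩, rfl⟩
  · refine h.2.2 D' hD' ⟨fun P φ hφ => hDi.1 P (hD'i.1 P hφ), fun P hP => ?_⟩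
    rw [MonoidHom.map_closure, Subgroup.closure_le]
    rintro _ ⟨α, ⟨k, hk⟩, rfl⟩
    have hα : (α : MulAut P) ∈ D.autGroup P := hDi.2 P hP ⟨α, Subgroup.subset_closure ⟨k, hk⟩, rfl⟩
    exact hD'i.2 P hP ⟨⟨α, hα⟩, Subgroup.subset_closure ⟨k, by
      rw [Subgroup.orderOf_mk]; rwa [← Subgroup.orderOf_coe] at hk⟩, rfl⟩

variable {G : Type*} [Group G] [Finite G] {ι : S →* G}

theorem pElt_mem_normalClosure (R : Sylow p G) {n : G} {j : ℕ} (hn : orderOf n = p ^ j) :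
    n ∈ Subgroup.normalClosure ((R : Subgroup G) : Set G) := by
  have hz : IsPGroup p (Subgroup.zpowers n) :=
    IsPGroup.of_card (n := j) (by rw [Nat.card_zpowers, hn])
  obtain ⟨U, hU⟩ := hz.exists_le_sylow
  obtain ⟨g, hg⟩ := MulAction.exists_smul_eq G R U
  have h1 : n ∈ ((g • R : Sylow p G) : Subgroup G) := hg ▸ hU (Subgroup.mem_zpowers n)
  rw [Sylow.coe_subgroup_smul] at h1
  obtain ⟨r, hr, rfl⟩ := h1
  exact Subgroup.normalClosure_normal.conj_mem r (Subgroup.subset_normalClosure hr) g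

theorem isPGroup_base (h : F.IsRealizedBy ι) (R : Sylow p G) (hR : (R : Subgroup G) = ι.range) :
    IsPGroup p S :=
  (R.isPGroup'.of_equiv (MulEquiv.subgroupCongr hR)).of_equiv (MonoidHom.ofInjective h.1).symm

theorem finite_base (h : F.IsRealizedBy ι) : Finite S := Finite.of_injective ι h.1

theorem isSaturated (h : F.IsRealizedBy ι) (R : Sylow p G) (hR : (R : Subgroup G) = ι.range) :
    F.IsSaturated p :=
  haveI := finite_base h
  isSaturated_of_realized h R hR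

theorem sub_sylow (h : F.IsRealizedBy ι) (R : Sylow p G) (hR : (R : Subgroup G) = ι.range)
    (L : Subgroup G) [L.Normal] {T : Subgroup Ω} (hT : T = pre ι L) (hTS : T ≤ S)
    (hTL : ∀ x : T, ι (Subgroup.inclusion hTS x) ∈ L) :
    ∃ W : Sylow p L, (W : Subgroup L) = (resHom ι L hTS hTL).range := by
  obtain ⟨W, hW⟩ := exists_sylow_inf_normal R L
  refine ⟨W, ?_⟩
  rw [hW]
  ext z
  rw [Subgroup.mem_subgroupOf, Subgroup.mem_inf, hR]
  constructor
  · rintro ⟨⟨s, hs⟩, hz⟩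
    exact ⟨⟨(s : Ω), hT ▸ mem_pre.2 (hs ▸ hz)⟩, Subtype.ext hs⟩
  · rintro ⟨t, rfl⟩
    exact ⟨⟨_, rfl⟩, (resHom ι L hTS hTL t).2⟩

theorem sub_saturated (h : F.IsRealizedBy ι) (R : Sylow p G) (hR : (R : Subgroup G) = ι.range)
    (L : Subgroup G) [L.Normal] {T : Subgroup Ω} (hT : T = pre ι L) (hTS : T ≤ S)
    (hTL : ∀ x : T, ι (Subgroup.inclusion hTS x) ∈ L) : (sub h.1 L hTS hTL).IsSaturated p := by
  obtain ⟨W, hW⟩ := sub_sylow h R hR L hT hTS hTL
  exact isSaturated sub_realized W hW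

/-- The subsystem of a normal subgroup containing the Sylow image has index prime to `p`. -/
theorem sub_index (h : F.IsRealizedBy ι) (R : Sylow p G) (hR : (R : Subgroup G) = ι.range)
    (H : Subgroup G) [H.Normal] (hH : ∀ x : S, ι (Subgroup.inclusion le_rfl x) ∈ H) :
    (sub h.1 H le_rfl hH).HasPrimeToPIndexIn F p := by
  refine ⟨sub_le h, fun P hP => ?_⟩
  rw [MonoidHom.map_closure, Subgroup.closure_le]
  rintro _ ⟨α, ⟨k, hk⟩, rfl⟩
  obtain ⟨n, j, hj, hn⟩ := exists_pElt h hP α.2 (by rwa [Subgroup.orderOf_coe])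
  refine sub_mem_aut hP ?_ hn
  refine Subgroup.normalClosure_le_normal ?_ (pElt_mem_normalClosure R hj)
  rw [hR]
  rintro _ ⟨s, rfl⟩
  exact hH s

/-- When `G` is generated by the conjugates of its Sylow subgroup and `C(O_p(G)) ≤ O_p(G)`, the system has
no proper subsystem of index prime to `p`. -/
theorem eq_of_normalClosure (h : F.IsRealizedBy ι) (R : Sylow p G) (hR : (R : Subgroup G) = ι.range)
    (hC : Subgroup.centralizer ((pCore p G : Subgroup G) : Set G) ≤ pCore p G)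
    (hN : Subgroup.normalClosure ((R : Subgroup G) : Set G) = ⊤) {E : FusionSystem S}
    (hE : E.IsSaturated p) (hEi : E.HasPrimeToPIndexIn F p) : E = F := by
  haveI := finite_base h
  set O := pCore p G with hO
  have hOR : O ≤ ι.range := hR ▸ Cores.pCore_le_sylow R
  set Q := pre ι O with hQ
  have hQS : Q ≤ S := pre_le O
  haveI := finite_sub hQS
  have hmap : (Q.subgroupOf S).map ι = O := by
    rw [hQ, pre, Subgroup.subgroupOf, Subgroup.comap_map_eq_self_of_injective S.subtype_injective,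
      Subgroup.map_comap_eq_self hOR]
  obtain ⟨f, hf⟩ := exists_aut h.1 hQS
  have hall : ∀ g : G, g ∈ Subgroup.normalizer (((Q.subgroupOf S).map ι : Subgroup G) : Set G) := by
    intro g
    rw [hmap, Subgroup.normalizer_eq_top]; trivial
  let ρ : G →* MulAut Q := f.comp ((MonoidHom.id G).codRestrict _ hall)
  have hρ : ∀ (g : G) (x : Q), ι ⟨ρ g x, hQS (ρ g x).2⟩ = g * ι ⟨x, hQS x.2⟩ * g⁻¹ := fun g x => hf _ x
  have hρE : ∀ g : G, ρ g ∈ E.autGroup Q := by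
    intro g
    have hle : Subgroup.normalClosure ((R : Subgroup G) : Set G) ≤ (E.autGroup Q).comap ρ := by
      refine (Subgroup.closure_le _).2 fun u hu => ?_
      obtain ⟨r, hr, hc⟩ := Group.mem_conjugatesOfSet_iff.1 hu
      obtain ⟨c, rfl⟩ := isConj_iff.1 hc
      have hmem : ρ (c * r * c⁻¹) ∈ F.autGroup Q := mem_of_induced h hQS (hρ _)
      obtain ⟨k, hk⟩ := R.isPGroup' ⟨r, hr⟩
      have hd : orderOf (ρ (c * r * c⁻¹)) ∣ p ^ k := by
        refine (orderOf_map_dvd ρ _).trans (orderOf_dvd_of_pow_eq_one ?_)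
        rw [conj_pow, show r ^ p ^ k = 1 from congrArg Subtype.val hk]
        group
      obtain ⟨j, -, hj⟩ := (Nat.dvd_prime_pow hp.out).1 hd
      exact hEi.2 Q hQS ⟨⟨_, hmem⟩, Subgroup.subset_closure ⟨j, by rwa [Subgroup.orderOf_mk]⟩, rfl⟩
    exact hle (hN ▸ Subgroup.mem_top g)
  have hOn : ∀ (x : S) (y : S), ι y ∈ O → ι (x * y * x⁻¹) ∈ O := fun x y hy => by
    rw [map_mul, map_mul, map_inv]
    exact Subgroup.Normal.conj_mem inferInstance _ hy _
  have hrec : E.IsReceptive Q := by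
    obtain ⟨U, ⟨φ, hφ, hr⟩, -, hU⟩ := hE Q hQS
    have : U = Q := by
      rw [← hr]
      refine range_eq_of_mem hφ (fun x => ?_) le_rfl
      obtain ⟨g, hg⟩ := (h.2 Q hQS φ (apply_mem hφ)).1 (hEi.1 Q hφ)
      refine (mem_pre (x := (⟨φ x, apply_mem hφ x⟩ : S))).2 ?_
      rw [hg x]
      exact Subgroup.Normal.conj_mem inferInstance _ ((mem_pre (x := (⟨x, hQS x.2⟩ : S))).1 x.2) g
    exact this ▸ hU
  refine fusion_ext fun P φ => ⟨fun hφ => hEi.1 P hφ, fun hφ => ?_⟩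
  have hP := src_le hφ
  obtain ⟨g, hg⟩ := (h.2 P hP φ (apply_mem hφ)).1 hφ
  set φ₀ : Q →* Ω := Q.subtype.comp (ρ g).toMonoidHom with hφ₀
  have hφ₀E : φ₀ ∈ E.Hom Q := (mem_autGroup hQS).1 (hρE g)
  have hφ₀r : φ₀.range = Q := range_eq_of_mem hφ₀E (fun x => ((ρ g) x).2) le_rfl
  obtain ⟨ψ, hψ, hψe⟩ := hrec.2 Q φ₀ hφ₀E hφ₀r
  have hQX : Q ≤ extender S Q φ₀ := le_extender hQS fun x => hQS ((ρ g) x).2
  have hPX : P ≤ extender S Q φ₀ := by
    intro x hx
    refine mem_extender_of (h := φ ⟨x, hx⟩)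
      ⟨hP hx, mem_normalizer_of_conj_mem fun y hy =>
        (mem_pre (x := (⟨x, hP hx⟩ : S) * ⟨y, hQS hy⟩ * (⟨x, hP hx⟩ : S)⁻¹)).2
          (hOn _ _ ((mem_pre (x := (⟨y, hQS hy⟩ : S))).1 hy))⟩ (apply_mem hφ _) fun q hq => ?_
    have e : (⟨((ρ g) ⟨x * (q : Ω) * x⁻¹, hq⟩ : Q), hQS ((ρ g) ⟨_, hq⟩).2⟩ : S) =
        ⟨φ ⟨x, hx⟩, apply_mem hφ _⟩ * ⟨((ρ g) q : Q), hQS ((ρ g) q).2⟩ *
          (⟨φ ⟨x, hx⟩, apply_mem hφ _⟩ : S)⁻¹ := by
      refine h.1 ?_
      rw [hρ, map_mul, map_mul, map_inv, hg, hρ,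
        show (⟨x * (q : Ω) * x⁻¹, hQS hq⟩ : S) = ⟨x, hP hx⟩ * ⟨q, hQS q.2⟩ * (⟨x, hP hx⟩ : S)⁻¹ from rfl,
        map_mul, map_mul, map_inv]
      group
    exact congrArg (fun z : S => (z : Ω)) e
  obtain ⟨k, hk⟩ := (h.2 _ (src_le hψ) ψ (apply_mem hψ)).1 (hEi.1 _ hψ)
  have hc : g⁻¹ * k ∈ Subgroup.centralizer ((O : Subgroup G) : Set G) := by
    intro o ho
    obtain ⟨s, rfl⟩ := hOR ho
    have hs : (s : Ω) ∈ Q := mem_pre.2 ho
    have e : (⟨ψ ⟨(s : Ω), hQX hs⟩, apply_mem hψ _⟩ : S) =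
        ⟨((ρ g) ⟨(s : Ω), hs⟩ : Q), hQS ((ρ g) ⟨_, hs⟩).2⟩ := Subtype.ext (hψe _ hs (hQX hs))
    have e2 := (hk ⟨(s : Ω), hQX hs⟩).symm.trans ((congrArg ι e).trans (hρ g ⟨(s : Ω), hs⟩))
    change k * ι s * k⁻¹ = g * ι s * g⁻¹ at e2
    calc ι s * (g⁻¹ * k) = g⁻¹ * (g * ι s * g⁻¹) * k := by group
      _ = g⁻¹ * (k * ι s * k⁻¹) * k := by rw [e2]
      _ = g⁻¹ * k * ι s := by group
  obtain ⟨z, hz⟩ := hOR (hC hc)
  have hzQ : (z : Ω) ∈ Q := mem_pre.2 (hz ▸ hC hc)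
  have hval : ∀ x : P, conjHom P (z : Ω)⁻¹ x ∈ extender S Q φ₀ := fun x => by
    show (z : Ω)⁻¹ * (x : Ω) * ((z : Ω)⁻¹)⁻¹ ∈ _
    exact mul_mem (mul_mem (inv_mem (hQX hzQ)) (hPX x.2)) (inv_mem (inv_mem (hQX hzQ)))
  refine hom_congr (E.comp_mem (E.conj_mem hP (inv_mem z.2)) hψ hval) fun x => ?_
  refine congrArg (fun w : S => (w : Ω))
    (h.1 ?_ : (⟨φ x, apply_mem hφ x⟩ : S) = ⟨_, apply_mem hψ ⟨_, hval x⟩⟩)
  rw [hg x, hk ⟨_, hval x⟩]
  show g * ι ⟨x, _⟩ * g⁻¹ = k * ι (z⁻¹ * ⟨x, hP x.2⟩ * z⁻¹⁻¹) * k⁻¹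
  simp only [map_mul, map_inv, hz]
  group

/-- Normal subgroups of a group with `C(O_p) ≤ O_p` inherit the property. -/
theorem centralizer_pCore_normal (hC : Subgroup.centralizer ((pCore p G : Subgroup G) : Set G) ≤ pCore p G)
    (K : Subgroup G) [K.Normal] :
    Subgroup.centralizer ((pCore p K : Subgroup K) : Set K) ≤ pCore p K := by
  haveI : (Subgroup.centralizer ((pCore p K : Subgroup K) : Set K)).Normal := Subgroup.normal_centralizer
  refine Cores.le_pCore (Balance.isPGroup_of_forall_coprime fun x hx hco => ?_)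
  have hxY : (x : G) ∈ Subgroup.centralizer ((pCore p G : Subgroup G) : Set G) := by
    refine CharP.mem_centralizer_of_isSubnormal (Subgroup.Normal.isSubnormal inferInstance)
      (Cores.pCore_isPGroup p) x.2 (by rwa [Subgroup.orderOf_coe]) ?_
    rintro y ⟨hy, hyK⟩
    have hy' : (⟨y, hyK⟩ : K) ∈ pCore p K :=
      Balance.subgroupOf_le_pCore
        (Subgroup.le_normalizer_of_normal (H := pCore p G) (K := K)) (Cores.pCore_isPGroup p) hy
    exact congrArg (fun z : K => (z : G)) (Subgroup.mem_centralizer_iff.1 hx _ hy')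
  have h1 := (Cores.pCore_isPGroup (G := G) p) ⟨x, hC hxY⟩
  obtain ⟨k, hk⟩ := h1
  refine Subtype.ext (orderOf_eq_one_iff.1 (Nat.eq_one_of_dvd_coprimes (hco.pow_right k) ?_ ?_))
  · rw [Subgroup.orderOf_coe]
  · exact orderOf_dvd_of_pow_eq_one (congrArg Subtype.val hk)

end Cfsg.Agent.Lib.FusionP3.Series
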